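import Groth.Agent.Lib.KoszulLift28.Exact
import Groth.Agent.Lib.FlatH4.LocCrit
import Mathlib.RingTheory.IsTensorProduct
import Mathlib.RingTheory.Ideal.Quotient.Operations

/-!
# Lifting Koszul regularity and flatness along a square-zero ideal
-/

set_option autoImplicit false

universe u

open TensorProduct
open Groth.Agent.CanElt (KObj kd k0 kmap lmap)

namespace Groth.Agent.KoszulLift28

section Chase

variable {A : Type u} [CommRing A] {M N P : Type u} [AddCommGroup M] [Module A M] [AddCommGroup N] [Module A N]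
  [AddCommGroup P] [Module A P]

theorem exists_lmap_of_eq_zero (i : M →ₗ[A] N) (p : N →ₗ[A] P) (hker : ∀ m, p m = 0 → ∃ m', i m' = m) :
    ∀ (l : List A) (n : ℕ) (x : KObj A N l n), lmap p l n x = 0 → ∃ c, lmap i l n c = x
  | [], 0, x, hx => hker x hx
  | [], _ + 1, _, _ => ⟨0, Subsingleton.elim (h := inferInstanceAs (Subsingleton PUnit)) _ _⟩
  | _ :: l, 0, x, hx => exists_lmap_of_eq_zero i p hker l 0 x hx
  | _ :: l, n + 1, (a, b), hx => by
    obtain ⟨c, hc⟩ := exists_lmap_of_eq_zero i p hker l (n + 1) a (congrArg Prod.fst hx)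
    obtain ⟨c', hc'⟩ := exists_lmap_of_eq_zero i p hker l n b (congrArg Prod.snd hx)
    exact ⟨(c, c'), Prod.ext hc hc'⟩

theorem k0_lmap (f : M →ₗ[A] N) : ∀ (l : List A) (x : KObj A M l 0), k0 A N l (lmap f l 0 x) = f (k0 A M l x)
  | [], _ => rfl
  | _ :: l, x => k0_lmap f l x

/-- Extensions of exact Koszul complexes. -/
theorem ex_ext {l : List A} (i : M →ₗ[A] N) (hi : Function.Injective i) (p : N →ₗ[A] P) (hp : Function.Surjective p)
    (hpi : ∀ m, p (i m) = 0) (hker : ∀ m, p m = 0 → ∃ m', i m' = m) (hM : CI2.Ex A M l) (hP : CI2.Ex A P l) :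
    CI2.Ex A N l := by
  intro n z hz
  obtain ⟨w', hw'⟩ := hP n (lmap p l (n + 1) z) (by rw [← CanElt.lmap_kd, hz, map_zero])
  obtain ⟨w, rfl⟩ := CI2.lmap_surjective p hp l (n + 2) w'
  obtain ⟨c, hc⟩ := exists_lmap_of_eq_zero i p hker l (n + 1) (z - kd A N l (n + 1) w)
    (by rw [map_sub, CanElt.lmap_kd, hw', sub_self])
  obtain ⟨v, hv⟩ := hM n c (CI2.lmap_injective i hi l n (by
    rw [CanElt.lmap_kd, hc, map_sub, hz, CanElt.kd_kd, sub_zero, map_zero]))
  refine ⟨w + lmap i l (n + 2) v, ?_⟩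
  rw [map_add, ← CanElt.lmap_kd, hv, hc, add_sub_cancel]

theorem ex_of_kmap_bijective {B : Type u} [CommRing B] {σ : A →+* B} {L : Type u} [AddCommGroup L] [Module B L]
    (ψ : M →ₛₗ[σ] L) (hψ : Function.Bijective ψ) {l : List A} (h : CI2.Ex B L (l.map σ)) : CI2.Ex A M l := by
  intro n z hz
  obtain ⟨w, hw⟩ := h n (kmap ψ l (n + 1) z) (by rw [← CanElt.kmap_kd, hz, map_zero])
  obtain ⟨w, rfl⟩ := CanElt.kmap_surjective ψ hψ.2 l (n + 2) w
  exact ⟨w, CanElt.kmap_injective ψ hψ.1 l (n + 1) (by rw [CanElt.kmap_kd, hw])⟩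

end Chase

variable {A B : Type u} [CommRing A] [CommRing B] [Algebra A B] [Module.Flat A B] {J : Ideal A}

local notation "I" => Ideal.map (algebraMap A B) J

theorem main (hJ : J * J = ⊥) (rs : List B)
    (hreg : CI2.Ex (B ⧸ I) (B ⧸ I) (rs.map (Ideal.Quotient.mk I)))
    (hflat : Module.Flat (A ⧸ J) ((B ⧸ I) ⧸ Ideal.ofList (rs.map (Ideal.Quotient.mk I)))) :
    CI2.Ex B B rs ∧ Module.Flat A (B ⧸ Ideal.ofList rs) := by
  have hJ' : ∀ a ∈ J, ∀ b ∈ J, a * b = 0 := fun a ha b hb => by
    rw [← Ideal.mem_bot, ← hJ]; exact Ideal.mul_mem_mul ha hb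
  have htor : Module.IsTorsionBySet A J (J : Set A) := fun x a => Subtype.ext (hJ' _ a.2 _ x.2)
  letI : Module (A ⧸ J) J := htor.module
  haveI : IsScalarTower A (A ⧸ J) J := htor.isScalarTower
  haveI : TensorProduct.CompatibleSMul A (A ⧸ J) (B ⧸ I) J := ⟨fun a m n => by
    obtain ⟨a, rfl⟩ := Ideal.Quotient.mk_surjective a
    rw [← Ideal.Quotient.algebraMap_eq, algebraMap_smul, algebraMap_smul, TensorProduct.smul_tmul]⟩
  -- the flat base change
  haveI : Module.Flat (A ⧸ J) (B ⧸ I) := by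
    have e := Algebra.TensorProduct.quotIdealMapEquivQuotTensor B J
    exact Module.Flat.of_linearEquiv e.toLinearEquiv
  -- `B ⊗ J ≅ (B/JB) ⊗ J`
  let q : B ⊗[A] J →ₗ[A] (B ⧸ I) ⊗[A] J := (Ideal.Quotient.mkₐ A I).toLinearMap.rTensor J
  have hqs : Function.Surjective q := LinearMap.rTensor_surjective _ Ideal.Quotient.mk_surjective
  have hI0 : ∀ x ∈ I, ∀ j : J, x ⊗ₜ[A] j = (0 : B ⊗[A] J) := by
    intro x hx
    induction hx using Submodule.span_induction with
    | mem y hy =>
      obtain ⟨a, ha, rfl⟩ := hy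
      intro j
      rw [Algebra.algebraMap_eq_smul_one, TensorProduct.smul_tmul, show a • j = 0 from Subtype.ext (hJ' _ ha _ j.2),
        TensorProduct.tmul_zero]
    | zero => intro j; exact TensorProduct.zero_tmul _ _
    | add y z _ _ hy hz => intro j; rw [TensorProduct.add_tmul, hy, hz, add_zero]
    | smul b y _ hy =>
      intro j
      have h := congrArg (fun t => b • t) (hy j)
      simpa [TensorProduct.smul_tmul'] using h
  have hqi : Function.Injective q := by
    let ι : (Submodule.restrictScalars A (I : Submodule B B)) →ₗ[A] B := Submodule.subtype _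
    have hex : Function.Exact (ι.rTensor J) q := rTensor_exact J (fun x => by
      refine ⟨fun hx => ⟨⟨x, Ideal.Quotient.eq_zero_iff_mem.1 hx⟩, rfl⟩, ?_⟩
      rintro ⟨y, rfl⟩
      exact Ideal.Quotient.eq_zero_iff_mem.2 y.2) Ideal.Quotient.mk_surjective
    rw [injective_iff_map_eq_zero]
    intro y hy
    obtain ⟨w, rfl⟩ := (hex y).1 hy
    induction w with
    | zero => rw [map_zero]
    | tmul x j => exact hI0 _ x.2 j
    | add a b ha hb => rw [map_add, ha (hex.apply_apply_eq_zero a), hb (hex.apply_apply_eq_zero b), add_zero]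
  let ψ : B ⊗[A] J →ₛₗ[Ideal.Quotient.mk I] (B ⧸ I) ⊗[A ⧸ J] J :=
    { toFun := fun y => (TensorProduct.mapOfCompatibleSMul (A ⧸ J) A A (B ⧸ I) J) (q y)
      map_add' := fun a b => by rw [map_add, map_add]
      map_smul' := fun b y => by
        induction y with
        | zero => simp
        | add a c ha hc => simp only [smul_add, map_add, ha, hc]
        | tmul x j => simp [q, TensorProduct.smul_tmul'] }
  have hψ : Function.Bijective ψ :=
    (TensorProduct.equivOfCompatibleSMul (A ⧸ J) A A (B ⧸ I) J).bijective.comp ⟨hqi, hqs⟩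
  have hM : CI2.Ex B (B ⊗[A] J) rs := ex_of_kmap_bijective ψ hψ (ex_tensor (A ⧸ J) hreg J)
  let π : B →ₗ[B] B ⧸ I := Submodule.mkQ _
  have hP : CI2.Ex B (B ⧸ I) rs :=
    ex_of_kmap_bijective (σ := Ideal.Quotient.mk I) (M := B ⧸ I) (L := B ⧸ I)
      { toFun := id, map_add' := fun _ _ => rfl, map_smul' := fun b x => by
          obtain ⟨x, rfl⟩ := Ideal.Quotient.mk_surjective x
          rfl }
      Function.bijective_id hreg
  let Θ : B ⊗[A] J →ₗ[B] B :=
    (AlgebraTensorModule.rid A B B).toLinearMap ∘ₗ AlgebraTensorModule.lTensor B B J.subtype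
  have hΘt : ∀ b j, Θ (b ⊗ₜ j) = algebraMap A B (j : A) * b := fun b j => by simp [Θ, Algebra.smul_def]
  have hΘi : Function.Injective Θ :=
    (AlgebraTensorModule.rid A B B).injective.comp
      (Module.Flat.lTensor_preserves_injective_linearMap (M := B) J.subtype J.injective_subtype)
  have hπΘ : ∀ y, π (Θ y) = 0 := fun y => by
    induction y with
    | zero => simp
    | add a b ha hb => rw [map_add, map_add, ha, hb, add_zero]
    | tmul b j =>
      rw [hΘt]
      exact Ideal.Quotient.eq_zero_iff_mem.2 (Ideal.mul_mem_right _ _ (Ideal.mem_map_of_mem _ j.2))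
  have hπker : ∀ b, π b = 0 → ∃ y, Θ y = b := by
    intro b hb
    have hb' : b ∈ I := Ideal.Quotient.eq_zero_iff_mem.1 hb
    induction hb' using Submodule.span_induction with
    | mem y hy =>
      obtain ⟨a, ha, rfl⟩ := hy
      exact ⟨1 ⊗ₜ ⟨a, ha⟩, by rw [hΘt, mul_one]⟩
    | zero => exact ⟨0, map_zero _⟩
    | add y z hy hz ihy ihz =>
      obtain ⟨p, hp⟩ := ihy (Ideal.Quotient.eq_zero_iff_mem.2 hy)
      obtain ⟨p', hp'⟩ := ihz (Ideal.Quotient.eq_zero_iff_mem.2 hz)
      exact ⟨p + p', by rw [map_add, hp, hp']⟩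
    | smul c y hy ih =>
      obtain ⟨p, hp⟩ := ih (Ideal.Quotient.eq_zero_iff_mem.2 hy)
      exact ⟨c • p, by rw [map_smul, hp]⟩
  have hπs : Function.Surjective π := Submodule.mkQ_surjective _
  have hB : CI2.Ex B B rs := ex_ext Θ hΘi π hπs hπΘ hπker hM hP
  refine ⟨hB, ?_⟩
  -- flatness
  refine FlatH4.flat_of_isNilpotent J ⟨2, by rw [pow_two, hJ]; rfl⟩ ?_ ?_
  · rw [injective_iff_map_eq_zero]
    intro ξ hξ
    let g : B →ₗ[A] B ⧸ Ideal.ofList rs := (Ideal.Quotient.mkₐ A _).toLinearMap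
    obtain ⟨y, rfl⟩ := LinearMap.rTensor_surjective J (g := g) Ideal.Quotient.mk_surjective ξ
    have hcomm : ∀ z : B ⊗[A] J, TensorProduct.rid A _ (J.subtype.lTensor (B ⧸ Ideal.ofList rs) (g.rTensor J z)) = g (Θ z) := by
      intro z
      induction z with
      | zero => simp
      | add a b ha hb => simp only [map_add, ha, hb]
      | tmul b j =>
        rw [hΘt, LinearMap.rTensor_tmul, LinearMap.lTensor_tmul, TensorProduct.rid_tmul, ← map_smul, Algebra.smul_def]
        rfl
    have hmem : Θ y ∈ Ideal.ofList rs := by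
      have := hcomm y
      rw [hξ, map_zero] at this
      exact Ideal.Quotient.eq_zero_iff_mem.1 this.symm
    obtain ⟨w, hw⟩ := (CanElt.mem_range_kd_zero B B rs ((k0 B B rs).symm (Θ y))).2
      (by rw [LinearEquiv.apply_symm_apply, Ideal.smul_eq_mul, Ideal.mul_top]; exact hmem)
    obtain ⟨v', hv'⟩ := hP 0 (lmap π rs 1 w) ((k0 B (B ⧸ I) rs).injective (by
      rw [← CanElt.lmap_kd, hw, k0_lmap, LinearEquiv.apply_symm_apply, hπΘ, map_zero]))
    obtain ⟨v, rfl⟩ := CI2.lmap_surjective π hπs rs 2 v'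
    obtain ⟨c, hc⟩ := exists_lmap_of_eq_zero Θ π hπker rs 1 (w - kd B B rs 1 v)
      (by rw [map_sub, CanElt.lmap_kd, hv', sub_self])
    have h3 : kd B (B ⊗[A] J) rs 0 c = (k0 B (B ⊗[A] J) rs).symm y := by
      apply CI2.lmap_injective Θ hΘi rs 0
      apply (k0 B B rs).injective
      rw [CanElt.lmap_kd, hc, map_sub, CanElt.kd_kd, sub_zero, hw, k0_lmap, LinearEquiv.apply_symm_apply,
        LinearEquiv.apply_symm_apply]
    have h4 := (CanElt.mem_range_kd_zero B (B ⊗[A] J) rs _).1 ⟨c, h3⟩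
    rw [LinearEquiv.apply_symm_apply] at h4
    refine Submodule.smul_induction_on h4 (fun r hr z hzt => ?_) fun a b ha hb => by rw [map_add, ha, hb, add_zero]
    clear hzt
    induction z with
    | zero => simp
    | add a b ha hb => rw [smul_add, map_add, ha, hb, add_zero]
    | tmul b j =>
      rw [TensorProduct.smul_tmul', LinearMap.rTensor_tmul,
        show g (r • b) = 0 from Ideal.Quotient.eq_zero_iff_mem.2 (Ideal.mul_mem_right _ _ hr), TensorProduct.zero_tmul]
  · -- the reduction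
    let Q := B ⧸ Ideal.ofList rs
    let Q' := (B ⧸ I) ⧸ Ideal.ofList (rs.map (Ideal.Quotient.mk I))
    have hle : Ideal.ofList rs ≤ RingHom.ker ((Ideal.Quotient.mk (Ideal.ofList (rs.map (Ideal.Quotient.mk I)))).comp
        (Ideal.Quotient.mk I)) := by
      intro b hb
      rw [RingHom.mem_ker, RingHom.comp_apply, Ideal.Quotient.eq_zero_iff_mem, ← Ideal.map_ofList]
      exact Ideal.mem_map_of_mem _ hb
    let f : Q →ₗ[A] Q' :=
      { toFun := Ideal.Quotient.lift _ _ hle
        map_add' := map_add _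
        map_smul' := fun a x => by
          obtain ⟨x, rfl⟩ := Ideal.Quotient.mk_surjective x
          rfl }
    let F : (A ⧸ J) ⊗[A] Q →ₗ[A ⧸ J] Q' := f.liftBaseChange (A ⧸ J)
    have hone : ∀ z : (A ⧸ J) ⊗[A] Q, ∃ x, z = 1 ⊗ₜ x := by
      intro z
      induction z with
      | zero => exact ⟨0, (TensorProduct.tmul_zero _ _).symm⟩
      | add a b ha hb =>
        obtain ⟨x, rfl⟩ := ha
        obtain ⟨y, rfl⟩ := hb
        exact ⟨x + y, (TensorProduct.tmul_add _ _ _).symm⟩
      | tmul a x =>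
        obtain ⟨a, rfl⟩ := Ideal.Quotient.mk_surjective a
        exact ⟨a • x, by rw [← Ideal.Quotient.algebraMap_eq, Algebra.algebraMap_eq_smul_one, TensorProduct.smul_tmul]⟩
    have hF : Function.Bijective F := by
      refine ⟨(injective_iff_map_eq_zero F).2 fun z hz => ?_, fun y => ?_⟩
      · obtain ⟨x, rfl⟩ := hone z
        obtain ⟨b, rfl⟩ := Ideal.Quotient.mk_surjective x
        rw [LinearMap.liftBaseChange_tmul, one_smul] at hz
        have hz' : Ideal.Quotient.mk (Ideal.ofList (rs.map (Ideal.Quotient.mk I))) (Ideal.Quotient.mk I b) = 0 := hz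
        rw [Ideal.Quotient.eq_zero_iff_mem, ← Ideal.map_ofList, ← Ideal.mem_comap,
          Ideal.comap_map_of_surjective _ Ideal.Quotient.mk_surjective, ← RingHom.ker_eq_comap_bot, Ideal.mk_ker] at hz'
        obtain ⟨r, hr, i, hi, rfl⟩ := Submodule.mem_sup.1 hz'
        rw [map_add, Ideal.Quotient.eq_zero_iff_mem.2 hr, zero_add]
        clear hz hz'
        induction hi using Submodule.span_induction with
        | mem y hy =>
          obtain ⟨a, ha, rfl⟩ := hy
          have e1 : Ideal.Quotient.mk (Ideal.ofList rs) (algebraMap A B a) = a • (1 : Q) := by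
            rw [Algebra.algebraMap_eq_smul_one]; rfl
          rw [e1, ← TensorProduct.smul_tmul]
          have e2 : a • (1 : A ⧸ J) = 0 := by
            rw [← Algebra.algebraMap_eq_smul_one]; exact Ideal.Quotient.eq_zero_iff_mem.2 ha
          rw [e2, TensorProduct.zero_tmul]
        | zero => rw [map_zero, TensorProduct.tmul_zero]
        | add y z _ _ hy hz => rw [map_add, TensorProduct.tmul_add, hy, hz, add_zero]
        | smul c y _ hy =>
          let m : Q →ₗ[A] Q := LinearMap.mulLeft A (Ideal.Quotient.mk (Ideal.ofList rs) c)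
          have h := congrArg (m.lTensor (A ⧸ J)) hy
          rw [map_zero, LinearMap.lTensor_tmul] at h
          rw [smul_eq_mul, map_mul]
          exact h
      · obtain ⟨y, rfl⟩ := Ideal.Quotient.mk_surjective y
        obtain ⟨b, rfl⟩ := Ideal.Quotient.mk_surjective y
        exact ⟨1 ⊗ₜ Ideal.Quotient.mk _ b, by rw [LinearMap.liftBaseChange_tmul, one_smul]; rfl⟩
    haveI := hflat
    exact Module.Flat.of_linearEquiv (LinearEquiv.ofBijective F hF)

end Groth.Agent.KoszulLift28
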