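import Groth.Agent.Lib.CI2.Ops
import Mathlib.RingTheory.Flat.Equalizer

/-!
# Exact Koszul complexes with flat cokernel stay exact under tensoring
-/

set_option autoImplicit false

universe u

open TensorProduct
open Groth.Agent.CanElt (KObj kd)

namespace Groth.Agent.KoszulLift28

section Gen

variable {S : Type u} [CommRing S] {N P : Type u} [AddCommGroup N] [Module S N] [AddCommGroup P] [Module S P]

/-- The kernel of a surjection of flat modules is flat. -/
theorem flat_ker [Module.Flat S N] [Module.Flat S P] (f : N →ₗ[S] P) (hf : Function.Surjective f) :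
    Module.Flat S (LinearMap.ker f) := by
  refine Module.Flat.iff_rTensor_injective'.2 fun I => ?_
  have h1 : Function.Injective ((LinearMap.ker f).subtype.lTensor I) :=
    LinearMap.lTensor_injective_of_exact_of_flat f hf _ (LinearMap.ker f).subtype_injective
      (LinearMap.exact_subtype_ker_map f) I
  have h2 : Function.Injective (I.subtype.rTensor N) :=
    Module.Flat.rTensor_preserves_injective_linearMap _ I.subtype_injective
  have h3 : (LinearMap.ker f).subtype.lTensor S ∘ₗ I.subtype.rTensor (LinearMap.ker f) =
      I.subtype.rTensor N ∘ₗ (LinearMap.ker f).subtype.lTensor I := by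
    ext
    simp
  refine Function.Injective.of_comp (f := (LinearMap.ker f).subtype.lTensor S) ?_
  rw [← LinearMap.coe_comp, h3, LinearMap.coe_comp]
  exact h2.comp h1

end Gen

variable (S : Type u) [CommRing S] {R : Type u} [CommRing R] [Algebra S R]

/-- The restricted scalars on the terms. -/
@[reducible] noncomputable def modK (l : List R) (n : ℕ) : Module S (KObj R R l n) :=
  Module.compHom _ (algebraMap S R)

attribute [local instance] modK

instance (l : List R) (n : ℕ) : IsScalarTower S R (KObj R R l n) :=
  IsScalarTower.of_algebraMap_smul fun _ _ => rfl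

theorem flat_KObj [Module.Flat S R] (l : List R) (n : ℕ) : Module.Flat S (KObj R R l n) :=
  haveI := CanElt.projective_KObj R R l n
  Module.Flat.trans S R _

variable [Module.Flat S R] {l : List R}

theorem ker_eq_range (h : CI2.Ex R R l) (n : ℕ) :
    LinearMap.ker ((kd R R l n).restrictScalars S) = LinearMap.range ((kd R R l (n + 1)).restrictScalars S) := by
  ext z
  exact ⟨fun hz => h n z hz, fun ⟨w, hw⟩ => hw ▸ CanElt.kd_kd R R l n w⟩

/-- The boundaries are flat, and have flat cokernels. -/
theorem flat_range (h : CI2.Ex R R l) [Module.Flat S (R ⧸ Ideal.ofList l)] :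
    ∀ n, Module.Flat S (LinearMap.range ((kd R R l n).restrictScalars S))
  | 0 => by
    let p : KObj R R l 0 →ₗ[S] R ⧸ Ideal.ofList l :=
      ((Submodule.mkQ _).comp (CanElt.k0 R R l).toLinearMap).restrictScalars S
    have hp : Function.Surjective p := (Submodule.mkQ_surjective _).comp (CanElt.k0 R R l).surjective
    haveI := flat_KObj S l 0
    haveI := flat_ker p hp
    refine Module.Flat.of_linearEquiv (LinearEquiv.ofEq _ (LinearMap.ker p) ?_)
    ext z
    refine Iff.trans (CanElt.mem_range_kd_zero R R l z) ?_
    simp [p, Ideal.mul_top, Ideal.Quotient.eq_zero_iff_mem]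
  | n + 1 => by
    let q := ((kd R R l n).restrictScalars S).rangeRestrict
    haveI := flat_range h n
    haveI := flat_KObj S l (n + 1)
    haveI := flat_ker q (LinearMap.surjective_rangeRestrict _)
    exact Module.Flat.of_linearEquiv (LinearEquiv.ofEq (LinearMap.range ((kd R R l (n + 1)).restrictScalars S))
      (LinearMap.ker q) (by rw [LinearMap.ker_rangeRestrict, ker_eq_range S h n]))

/-- The inclusion of the boundaries stays injective after tensoring. -/
theorem range_tensor_injective (h : CI2.Ex R R l) [Module.Flat S (R ⧸ Ideal.ofList l)] (X : Type u)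
    [AddCommGroup X] [Module S X] :
    ∀ n, Function.Injective ((LinearMap.range ((kd R R l n).restrictScalars S)).subtype.lTensor X)
  | 0 => by
    let p : KObj R R l 0 →ₗ[S] R ⧸ Ideal.ofList l :=
      ((Submodule.mkQ _).comp (CanElt.k0 R R l).toLinearMap).restrictScalars S
    have hp : Function.Surjective p := (Submodule.mkQ_surjective _).comp (CanElt.k0 R R l).surjective
    refine LinearMap.lTensor_injective_of_exact_of_flat p hp _ (Submodule.subtype_injective _)
      (LinearMap.exact_iff.2 ?_) X
    rw [Submodule.range_subtype]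
    ext z
    symm
    refine Iff.trans (CanElt.mem_range_kd_zero R R l z) ?_
    simp [p, Ideal.mul_top, Ideal.Quotient.eq_zero_iff_mem]
  | n + 1 => by
    haveI := flat_range S h n
    refine LinearMap.lTensor_injective_of_exact_of_flat ((kd R R l n).restrictScalars S).rangeRestrict
      (LinearMap.surjective_rangeRestrict _) _ (Submodule.subtype_injective _) (LinearMap.exact_iff.2 ?_) X
    rw [Submodule.range_subtype, LinearMap.ker_rangeRestrict, ker_eq_range S h n]

/-- Tensoring keeps exactness. -/
theorem lTensor_exact_kd (h : CI2.Ex R R l) [Module.Flat S (R ⧸ Ideal.ofList l)] (X : Type u)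
    [AddCommGroup X] [Module S X] (n : ℕ) :
    Function.Exact (((kd R R l (n + 1)).restrictScalars S).lTensor X)
      (((kd R R l n).restrictScalars S).lTensor X) := by
  set d := (kd R R l n).restrictScalars S
  have e : d.lTensor X = (LinearMap.range d).subtype.lTensor X ∘ₗ d.rangeRestrict.lTensor X := by
    rw [← LinearMap.lTensor_comp, LinearMap.subtype_comp_codRestrict]
  rw [e, LinearMap.coe_comp]
  refine Function.Exact.comp_injective _ ?_ (range_tensor_injective S h X n) (map_zero _)
  refine lTensor_exact X (LinearMap.exact_iff.2 ?_) (LinearMap.surjective_rangeRestrict _)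
  rw [LinearMap.ker_rangeRestrict]
  exact ker_eq_range S h n

/-- Tensoring with a module over the base keeps the Koszul complex exact. -/
theorem ex_tensor (h : CI2.Ex R R l) [Module.Flat S (R ⧸ Ideal.ofList l)] (X : Type u)
    [AddCommGroup X] [Module S X] : CI2.Ex R (R ⊗[S] X) l := by
  intro n z hz
  -- `K ⊗_R (R ⊗_S X) = K ⊗_S X`
  let c : ∀ m, KObj R R l m ⊗[R] (R ⊗[S] X) ≃ₗ[S] X ⊗[S] KObj R R l m := fun m =>
    ((AlgebraTensorModule.cancelBaseChange S R R (KObj R R l m) X).restrictScalars S).trans (TensorProduct.comm S _ _)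
  have hc : ∀ m y, c m ((kd R R l m).rTensor (R ⊗[S] X) y) =
      ((kd R R l m).restrictScalars S).lTensor X (c (m + 1) y) := by
    intro m y
    induction y with
    | zero => simp
    | add a b ha hb => simp only [map_add, ha, hb]
    | tmul k w =>
      induction w with
      | zero => simp
      | add a b ha hb => simp only [TensorProduct.tmul_add, map_add, ha, hb]
      | tmul r x => simp [c]
  have hcomp : ∀ m y, CI2.tEquiv (R ⊗[S] X) l m ((kd R R l m).rTensor (R ⊗[S] X) y) =
      kd R (R ⊗[S] X) l m (CI2.tEquiv (R ⊗[S] X) l (m + 1) y) := fun m y => by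
    induction y with
    | zero => simp
    | add a b ha hb => simp only [map_add, ha, hb]
    | tmul k w => exact CI2.tEquiv_kd _ l m k w
  obtain ⟨y, rfl⟩ := (CI2.tEquiv (R ⊗[S] X) l (n + 1)).surjective z
  have h1 : ((kd R R l n).restrictScalars S).lTensor X (c (n + 1) y) = 0 := by
    rw [← hc, show (kd R R l n).rTensor (R ⊗[S] X) y = 0 from
      (CI2.tEquiv (R ⊗[S] X) l n).injective (by rw [hcomp, hz, map_zero]), map_zero]
  obtain ⟨w, hw⟩ := (lTensor_exact_kd S h X n (c (n + 1) y)).1 h1
  obtain ⟨w, rfl⟩ := (c (n + 2)).surjective w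
  rw [← hc] at hw
  exact ⟨CI2.tEquiv (R ⊗[S] X) l (n + 2) w, by rw [← hcomp, (c (n + 1)).injective hw]⟩

end Groth.Agent.KoszulLift28
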